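import Groth.Agent.HilbPoly.Stab
import Groth.Agent.RefX2.Hart
import Groth.Agent.RefX2.Codim
import Groth.Agent.CycEtLib.Normal
import Groth.Agent.VarDim.Fibre
import Groth.Agent.VarDim.Top

/-!
# Morphisms between slope stable reflexive modules
-/

set_option linter.style.haveILetI false
set_option backward.isDefEq.respectTransparency false
set_option backward.isDefEq.respectTransparency.types false

universe u

open CategoryTheory CategoryTheory.Limits AlgebraicGeometry Polynomial StabCat TopologicalSpace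

noncomputable section

namespace Groth.Agent.MuStabIso

open Groth.Agent Groth.Agent.HilbPoly

variable {X : Scheme.{u}} {k : Type u} [Field k] [X.Over (Spec (CommRingCat.of k))]
  [IsProper (X ↘ Spec (CommRingCat.of k))] [IsIntegral X] {L : X.Modules}

include k in
/-- On an integral variety the closure of a point of codimension one has codimension one. -/
theorem dim_closure_of_coheight_one {n : ℕ} (hX : topologicalKrullDim X = (n : WithBot ℕ∞)) {y : X}
    (hy : Order.coheight y = 1) :
    topologicalKrullDim ↥(closure ({y} : Set X)) = ((n - 1 : ℕ) : WithBot ℕ∞) := by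
  let p := X ↘ Spec (CommRingCat.of k)
  obtain ⟨b, hb, ⟨η, hη, hηd⟩, hmax⟩ := VarDim.exists_deg_add_stalk (k := k) p y
  rw [AlgebraicGeometry.ringKrullDim_stalk_eq_coheight, hy] at hb
  have hb1 : b = 1 := by
    have h2 : ((1 : ℕ) : WithBot ℕ∞) = (b : WithBot ℕ∞) := by rw [← hb]; rfl
    exact_mod_cast h2.symm
  have hgen := VarDim.deg_le_of_specializes (k := k) p ((genericPoint_spec X).specializes (y := η) trivial)
  have hgen2 := hmax (genericPoint X) ((genericPoint_spec X).specializes trivial)
  have hn : VarDim.deg p (genericPoint X) = n := by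
    have h := VarDim.topologicalKrullDim_closure_singleton (k := k) p (genericPoint X)
    rw [show closure ({genericPoint X} : Set X) = Set.univ from genericPoint_spec X,
      (Homeomorph.Set.univ X).isHomeomorph.topologicalKrullDim_eq, hX] at h
    exact_mod_cast h.symm
  rw [VarDim.topologicalKrullDim_closure_singleton (k := k) p y,
    show VarDim.deg p y = n - 1 by omega]
  rfl

omit [X.Over (Spec (CommRingCat.of k))] [IsProper (X ↘ Spec (CommRingCat.of k))] [Field k] in
/-- Nonzero coherent submodules of a torsion free module have full support. -/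
theorem isPure_of_tf [IsLocallyNoetherian X] {n : ℕ} (hX : topologicalKrullDim X = (n : WithBot ℕ∞))
    {F : X.Modules} (hF : Coh.IsCoh F) (htf : RefX2.TF F) : ShStab.IsPure X F n := by
  intro A ι hι hA hA0
  haveI := hι
  obtain ⟨x, hx⟩ : ∃ x, x ∈ CohB1.support A := by
    by_contra h
    push_neg at h
    exact hA0 (CurveCohLib.isZero_of_subsingleton_stalks fun x => not_not.1 (h x))
  have hinj : ∀ z, Function.Injective (RefHull.stalkMapₗ ι z) := fun z =>
    (AddCommGrpCat.mono_iff_injective _).1
      (inferInstanceAs (Mono ((DerSch.stalkFunctor X z ⋙ forget₂ _ Ab).map ι)))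
  have hA' := htf.of_injective ι hinj
  have hη : genericPoint X ∈ CohB1.support A := fun hs => hx (by
    haveI := hs
    exact (hA' x).subsingleton)
  have huniv : CohB1.support A = Set.univ := Set.eq_univ_of_univ_subset <| by
    rw [← genericPoint_spec X]
    exact closure_minimal (Set.singleton_subset_iff.2 hη) (QCoh.isClosed_support_of_isFT hA.1 hA.2)
  rw [huniv, (Homeomorph.Set.univ X).isHomeomorph.topologicalKrullDim_eq, hX]

variable [IsLocallyNoetherian X]

/-- A nonzero map between slope stable reflexive modules, not increasing the slope, is an isomorphism. -/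
theorem isIso_of_muStable {n : ℕ} (hn : 1 ≤ n) (hX : topologicalKrullDim X = (n : WithBot ℕ∞))
    (hN : Pi1.IsNormalScheme X) (hL : CohB1.IsAmple L) {F G : X.Modules}
    (hFr : RefHull.IsReflexive F) (hGr : RefHull.IsReflexive G)
    (hF : ShStab.IsMuStable k X L F n) (hG : ShStab.IsMuStable k X L G n) {pF pG : ℚ[X]}
    (hpF : ShStab.IsHilbPoly k X L F pF) (hpG : ShStab.IsHilbPoly k X L G pG)
    (hle : hatSlope n pG ≤ hatSlope n pF) (φ : F ⟶ G) (hφ : φ ≠ 0) : IsIso φ := by
  obtain ⟨hFc, hF0, hdF, -, hFst⟩ := hF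
  obtain ⟨hGc, hG0, hdG, -, hGst⟩ := hG
  have hFt := RefX2.tf_of_isReflexive hFc hFr
  have hGt := RefX2.tf_of_isReflexive hGc hGr
  have hFp := isPure_of_tf hX hFc hFt
  have hGp := isPure_of_tf hX hGc hGt
  obtain ⟨K, I, a, p, b, w, hfac, ha, hb, hp, hS, hKc, hIc⟩ := exists_factor (k := k) hFc hGc φ
  haveI := ha; haveI := hb; haveI := hp
  have hI0 : ¬ IsZero I := fun h => hφ (by rw [← hfac, h.eq_of_tgt p 0, Limits.zero_comp])
  have hdI := hGp I b hb hIc hI0
  obtain ⟨pK, hpK, -, -⟩ := exists_hilb (k := k) hL.1 hKc (dim_mono hKc hFc a hdF.le)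
  obtain ⟨pI, hpI, -, -⟩ := exists_hilb (k := k) hL.1 hIc hdI.le
  have hsum : pF = pK + pI := isHilbPoly_unique hpF (hilb_add hL.1 hS hKc hFc hIc hpK hpI)
  have hα : ∀ j, alpha j pF = alpha j pK + alpha j pI := fun j => by
    simp only [hsum, alpha, Polynomial.coeff_add]; ring
  have hαI := alpha_pos hL hIc hdI hpI
  have hαF := alpha_pos hL hFc hdF hpF
  have hαG := alpha_pos hL hGc hdG hpG
  have hGss : IsMuSS Coh.IsCoh (ShStab.IsHilbPoly k X L) n G :=
    fun F' ι hι hc p q h1 h2 h3 h4 => (hGst F' ι hι hc p q h1 h2 h3 h4).le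
  have h2 := mu_sub hn hL hGc hdG hGss b hIc hdI hpI hpG
  rw [hatSlope, hatSlope, div_le_div_iff₀ hαG hαF] at hle
  have hK0 : IsZero K := by
    by_contra hK0
    have hαK := alpha_pos hL hKc (hFp K a ha hKc hK0) hpK
    have h3 := hFst K a ha hKc pK pF hpK hpF hαK (by linarith [hα n])
    rw [hatSlope, hatSlope, div_lt_div_iff₀ hαK hαF, hα n, hα (n - 1)] at h3
    rw [hα n, hα (n - 1)] at hle
    have h1 : alpha (n - 1) pF * alpha n pI < alpha (n - 1) pI * alpha n pF := by
      rw [hα n, hα (n - 1)]; linarith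
    rw [hα n, hα (n - 1)] at h1
    have c1 := mul_lt_mul_of_pos_left h1 hαG
    have c2 := mul_le_mul_of_nonneg_left h2 (by linarith [hα n] : (0 : ℚ) ≤ alpha n pK + alpha n pI)
    have c3 := mul_le_mul_of_nonneg_left hle hαI.le
    linarith
  haveI : Mono p := (ShortComplex.exact_iff_mono _ (hK0.eq_of_src a 0)).1 hS.exact
  haveI : Mono φ := hfac ▸ mono_comp p b
  obtain ⟨Q, g, wQ, hg, hSQ, hQ, -⟩ := exists_quot (k := k) hFc hGc φ
  haveI := hg
  have hdQ := dim_epi hGc hQ g hdG.le
  obtain ⟨pQ, hpQ, -, -⟩ := exists_hilb (k := k) hL.1 hQ hdQ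
  have hsumG : pG = pF + pQ := isHilbPoly_unique hpG (hilb_add hL.1 hSQ hFc hGc hQ hpF hpQ)
  have hαQ : ∀ j, alpha j pG = alpha j pF + alpha j pQ := fun j => by
    simp only [hsumG, alpha, Polynomial.coeff_add]; ring
  have hQn : alpha n pQ = 0 := by
    refine le_antisymm (not_lt.1 fun h => ?_) (alpha_nonneg hL hQ hdQ hpQ)
    have h3 := hGst F φ inferInstance hFc pF pG hpF hpG hαF (by linarith [hαQ n])
    rw [hatSlope, hatSlope, div_lt_div_iff₀ hαF hαG] at h3
    linarith
  have hlt : topologicalKrullDim ↥(CohB1.support Q) < (n : WithBot ℕ∞) := by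
    refine lt_of_le_of_ne hdQ fun he => ?_
    have := alpha_pos hL hQ he hpQ
    linarith
  have hQ1 : alpha (n - 1) pQ = 0 := by
    refine le_antisymm ?_ (alpha_nonneg hL hQ (pred_cast hn hlt) hpQ)
    rw [hαQ n, hαQ (n - 1), hQn] at hle
    by_contra h
    push_neg at h
    have := mul_pos h hαF
    linarith
  have hsmall : topologicalKrullDim ↥(CohB1.support Q) < ((n - 1 : ℕ) : WithBot ℕ∞) := by
    refine lt_of_le_of_ne (pred_cast hn hlt) fun he => ?_
    have := alpha_pos hL hQ he hpQ
    linarith
  have hout : ∀ y : X, ((n - 1 : ℕ) : WithBot ℕ∞) ≤ topologicalKrullDim ↥(closure ({y} : Set X)) →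
      Function.Surjective (RefHull.stalkMapₗ φ y) := fun y hy => by
    have hQy : Subsingleton (Q.presheaf.stalk y) := not_not.1 fun hs =>
      absurd hsmall (not_lt.2 (hy.trans (H23.TopDim.dim_le_dim_of_subset
        (closure_minimal (Set.singleton_subset_iff.2 hs) (QCoh.isClosed_support_of_isFT hQ.1 hQ.2)))))
    intro v
    have hex := (hSQ.exact.map (DerSch.stalkFunctor X y))
    exact (ShortComplex.moduleCat_exact_iff _).1 hex v (@Subsingleton.elim _ hQy _ _)
  refine (RefX2.hart_of_isReflexive hN hGc hGr).isIso (RefX2.hart_of_isReflexive hN hFc hFr) φ ⟨?_, ?_⟩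
    fun y hy => hout y (dim_closure_of_coheight_one (k := k) hX hy).ge
  · exact (AddCommGrpCat.mono_iff_injective _).1
      (inferInstanceAs (Mono ((DerSch.stalkFunctor X (genericPoint X) ⋙ forget₂ _ Ab).map φ)))
  · refine hout _ ?_
    rw [show closure ({genericPoint X} : Set X) = Set.univ from genericPoint_spec X,
      (Homeomorph.Set.univ X).isHomeomorph.topologicalKrullDim_eq, hX]
    exact_mod_cast Nat.sub_le n 1

end Groth.Agent.MuStabIso
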